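import Cfsg.Agent.Lib.Chev.Group.Canonical
import Cfsg.Agent.Lib.Chev.Group.Opposite

/-! Groups with Steinberg's relations over a Chevalley group: conjugation formulas. -/
set_option autoImplicit false
set_option maxRecDepth 100000
open Cfsg.Lie
open scoped Matrix MatrixGroups

namespace CfsgLib.Chev.Abstract

open CfsgLib.Chev CfsgLib.Chev.Checks CfsgLib.Chev.Basic

/-- a group with root elements satisfying (R1), (R2), mapping to the Chevalley group -/
structure Sys {D : ChevalleyDatum} (hD : D ∈ dataList) (F : Type*) [Field F] (G : Type*) [Group G] where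
  X : ℕ → F → G
  add : ∀ r, r < D.nroots → ∀ t u : F, X r t * X r u = X r (t + u)
  comm : ∀ r s, r < D.nroots → s < D.nroots → s ≠ r → s ≠ D.neg r → ∀ t u : F,
    X s u * X r t = X r t * X s u * ((D.commWord F r s t u).map fun p => X p.1 p.2).prod
  θ : G →* GL D.Idx F
  θX : ∀ r, r < D.nroots → ∀ t : F, θ (X r t) = xGL hD F r t

namespace Sys

variable {D : ChevalleyDatum} {hD : D ∈ dataList} {F : Type*} [Field F] {G : Type*} [Group G] (S : Sys hD F G)

/-- word in the root elements -/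
def word (w : List (ℕ × F)) : G := (w.map fun p => S.X p.1 p.2).prod

theorem X_zero {r : ℕ} (hr : r < D.nroots) : S.X r 0 = 1 := by
  have := S.add r hr 0 0
  rw [add_zero] at this
  exact mul_eq_left.1 this

theorem X_inv {r : ℕ} (hr : r < D.nroots) (t : F) : (S.X r t)⁻¹ = S.X r (-t) := by
  rw [inv_eq_iff_mul_eq_one, S.add r hr, add_neg_cancel, S.X_zero hr]

theorem θ_word {w : List (ℕ × F)} (hw : ∀ p ∈ w, p.1 < D.nroots) : S.θ (S.word w) = Rel.wordGL hD w := by
  unfold word Rel.wordGL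
  rw [map_list_prod, List.map_map]
  congr 1
  exact List.map_congr_left fun p hp => S.θX p.1 (hw p hp) p.2

/-- the subgroup generated by some root elements -/
abbrev gen (P : ℕ → Prop) : Subgroup G := Subgroup.closure {g | ∃ (s : ℕ) (t : F), P s ∧ g = S.X s t}

theorem mem_gen {P : ℕ → Prop} {s : ℕ} (hs : P s) (t : F) : S.X s t ∈ S.gen P :=
  Subgroup.subset_closure ⟨s, t, hs, rfl⟩

theorem gen_le {P : ℕ → Prop} {K : Subgroup G} (h : ∀ s, P s → ∀ t : F, S.X s t ∈ K) : S.gen P ≤ K := by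
  refine (Subgroup.closure_le _).2 ?_
  rintro g ⟨s, t, hs, rfl⟩
  exact h s hs t

theorem gen_mono {P Q : ℕ → Prop} (h : ∀ s, P s → Q s) : S.gen P ≤ S.gen Q :=
  S.gen_le fun s hs t => S.mem_gen (h s hs) t

theorem mem_normalizer {P : ℕ → Prop} {r : ℕ} (hr : r < D.nroots)
    (hP : ∀ s, P s → s < D.nroots ∧ s ≠ D.neg r ∧ ∀ c ∈ D.commTerms r s, P c.1) (t : F) :
    S.X r t ∈ Subgroup.normalizer (S.gen P : Set G) := by
  let K : Subgroup G := Subgroup.closure {g | ∃ t : F, g = S.X r t}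
  have hK : ∀ g ∈ K, ∃ t, g = S.X r t := by
    intro g hg
    induction hg using Subgroup.closure_induction with
    | mem g hg => exact hg
    | one => exact ⟨0, (S.X_zero hr).symm⟩
    | mul a b _ _ ha hb => obtain ⟨t, rfl⟩ := ha; obtain ⟨u, rfl⟩ := hb; exact ⟨t + u, S.add r hr t u⟩
    | inv a _ ha => obtain ⟨t, rfl⟩ := ha; exact ⟨-t, S.X_inv hr t⟩
  refine (BH.normalizer_closure_le (K := K) fun g hg x hx => ?_) (Subgroup.subset_closure ⟨t, rfl⟩)
  obtain ⟨t, rfl⟩ := hK g hg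
  obtain ⟨s, u, hs, rfl⟩ := hx
  obtain ⟨hsl, hne, hcl⟩ := hP s hs
  by_cases hsr : s = r
  · subst hsr
    rw [S.add _ hr, S.X_inv hr, S.add _ hr]
    exact S.mem_gen hs _
  have h := S.comm r s hr hsl hsr hne (-t) u
  rw [← S.X_inv hr] at h
  have e : S.X r t * S.X s u * (S.X r t)⁻¹ = S.X s u * S.word (D.commWord F r s (-t) u) := by
    rw [mul_assoc, h, word]; group
  rw [e]
  refine mul_mem (S.mem_gen hs _) (Subgroup.list_prod_mem _ fun y hy => ?_)
  obtain ⟨p, hp, rfl⟩ := List.mem_map.1 hy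
  obtain ⟨c, hc, rfl⟩ := List.mem_map.1 hp
  exact S.mem_gen (hcl c hc) _

end Sys

variable {D : ChevalleyDatum} {F : Type*} [Field F]

theorem commTerms_act (hD : D ∈ dataList) {l : List ℕ} (hl : ∀ i ∈ l, i < D.rank) {r s : ℕ} (hr : r < D.nroots)
    (hs : s < D.nroots) {c : ℕ × ℤ × ℕ × ℕ} (hc : c ∈ D.commTerms r s) :
    ∃ c' ∈ D.commTerms (N.act D l r) (N.act D l s), c'.1 = N.act D l c.1 := by
  induction l with
  | nil => exact ⟨c, hc, rfl⟩
  | cons i l ih =>
    have hl' : ∀ k ∈ l, k < D.rank := fun k hk => hl k (List.mem_cons_of_mem _ hk)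
    have hi := hl i List.mem_cons_self
    obtain ⟨c', hc', e⟩ := ih hl'
    have R := Rel.refl hD hi
    have hr' := N.act_lt hD hl' hr
    have hs' := N.act_lt hD hl' hs
    rw [N.act_cons, N.act_cons, N.act_cons, ← R.eq _ hr', ← R.eq _ hs',
      Tables.commTerms_map (Rel.tab_valid hD) hi hr' hs', Tables.Tab.mapTerms]
    refine ⟨_, List.mem_map.2 ⟨c', hc', rfl⟩, ?_⟩
    show (Rel.tab hD).w i c'.1 = _
    rw [R.eq _ (Orbit.commTerms_lt (Rel.tab_valid hD) hr' hs' hc'), e]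

/-- closed sets of roots that some word makes positive -/
structure Closed (D : ChevalleyDatum) (l : List ℕ) (P : ℕ → Prop) : Prop where
  lt : ∀ r, P r → r < D.nroots
  pos : ∀ r, P r → D.IsPosRoot (N.act D l r)
  comm : ∀ r s, P r → P s → ∀ c ∈ D.commTerms r s, P c.1

namespace Sys

variable {hD : D ∈ dataList} {G : Type*} [Group G] (S : Sys hD F G)

theorem gen_step {l : List ℕ} (hl : ∀ i ∈ l, i < D.rank) {P : ℕ → Prop} (hP : Closed D l P) {r : ℕ} (hr : P r)
    {g : G} (hg : g ∈ S.gen fun s => P s ∧ N.act D l r ≤ N.act D l s) :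
    ∃ t, ∃ v ∈ S.gen (fun s => P s ∧ N.act D l r + 1 ≤ N.act D l s), g = S.X r t * v := by
  have hrl := hP.lt r hr
  set K : Subgroup G := Subgroup.closure {g | ∃ t : F, g = S.X r t}
  have hle : S.gen (fun s => P s ∧ N.act D l r ≤ N.act D l s) ≤
      K ⊔ S.gen (fun s => P s ∧ N.act D l r + 1 ≤ N.act D l s) := S.gen_le fun s hs t => by
    by_cases h : s = r
    · subst h; exact Subgroup.mem_sup_left (Subgroup.subset_closure ⟨t, rfl⟩)
    · refine Subgroup.mem_sup_right (S.mem_gen (show P s ∧ _ from ⟨hs.1, ?_⟩) t)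
      have : N.act D l r ≠ N.act D l s := fun e => h (Weyl.act_inj hD hl (hP.lt s hs.1) hrl e.symm)
      omega
  have hnorm : K ≤ Subgroup.normalizer (S.gen (fun s => P s ∧ N.act D l r + 1 ≤ N.act D l s) : Set G) := by
    refine (Subgroup.closure_le _).2 ?_
    rintro g ⟨t, rfl⟩
    refine S.mem_normalizer hrl (fun s hs => ⟨hP.lt s hs.1, fun e => ?_, fun c hc => ?_⟩) t
    · have h1 := hP.pos s hs.1
      rw [e, N.act_neg hD hl hrl] at h1
      exact N.not_pos_neg hD (hP.pos r hr) h1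
    · obtain ⟨c', hc', e⟩ := commTerms_act hD hl hrl (hP.lt s hs.1) hc
      obtain ⟨-, hc1, -⟩ := Weight.commTerms_pos hD (hP.pos r hr) (hP.pos s hs.1) hc'
      exact ⟨hP.comm r s hr hs.1 c hc, by omega⟩
  have h := hle hg
  rw [← SetLike.mem_coe, Subgroup.coe_mul_of_left_le_normalizer_right _ _ hnorm] at h
  obtain ⟨x, hx, v, hv, rfl⟩ := Set.mem_mul.1 h
  have : ∃ t, x = S.X r t := by
    clear hv hg h
    induction hx using Subgroup.closure_induction with
    | mem y hy => exact hy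
    | one => exact ⟨0, (S.X_zero hrl).symm⟩
    | mul a b _ _ ha hb => obtain ⟨t, rfl⟩ := ha; obtain ⟨u, rfl⟩ := hb; exact ⟨t + u, S.add r hrl t u⟩
    | inv a _ ha => obtain ⟨t, rfl⟩ := ha; exact ⟨-t, S.X_inv hrl t⟩
  obtain ⟨t, rfl⟩ := this
  exact ⟨t, v, hv, rfl⟩

/-- ordered product -/
def prodA (l : List ℕ) (t : ℕ → F) (m : List ℕ) : G := (m.map fun k => S.X (N.act D l.reverse k) (t k)).prod

theorem exists_prodA {l : List ℕ} (hl : ∀ i ∈ l, i < D.rank) {P : ℕ → Prop} (hP : Closed D l P) :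
    ∀ (n k : ℕ), k + n = D.nroots → ∀ g ∈ S.gen (fun s => P s ∧ k ≤ N.act D l s),
      ∃ t : ℕ → F, g = S.prodA l t (List.range' k n) := by
  intro n
  induction n with
  | zero =>
    intro k hk g hg
    have : g ∈ (⊥ : Subgroup G) := S.gen_le (fun s hs t => by
      have := (hP.pos s hs.1).1; have := hs.2; omega) hg
    exact ⟨0, by simp [Subgroup.mem_bot.1 this, prodA]⟩
  | succ n ih =>
    intro k hkn g hg
    have hl' : ∀ i ∈ l.reverse, i < D.rank := fun i hi => hl i (List.mem_reverse.1 hi)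
    have hk : k < D.nroots := by omega
    set r := N.act D l.reverse k with hr
    have hrl : r < D.nroots := N.act_lt hD hl' hk
    have hrk : N.act D l r = k := Weyl.act_act_reverse hD hl hk
    obtain ⟨a, v, hv, rfl⟩ : ∃ a, ∃ v ∈ S.gen (fun s => P s ∧ k + 1 ≤ N.act D l s), g = S.X r a * v := by
      by_cases h : P r
      · have := S.gen_step hl hP h (g := g) (by rwa [hrk])
        rwa [hrk] at this
      · refine ⟨0, g, S.gen_le (fun s hs t => S.mem_gen (show P s ∧ _ from ⟨hs.1, ?_⟩) t) hg, by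
          rw [S.X_zero hrl, one_mul]⟩
        have : k ≠ N.act D l s := fun e => h (by
          rw [hr, e, Weyl.act_reverse_act hD hl (hP.lt s hs.1)]; exact hs.1)
        have := hs.2
        omega
    obtain ⟨t, rfl⟩ := ih (k + 1) (by omega) v hv
    refine ⟨Function.update t k a, ?_⟩
    simp only [prodA, List.range'_succ, List.map_cons, List.prod_cons, Function.update_self]
    congr 2
    refine List.map_congr_left fun m hm => ?_
    rw [List.mem_range'_1] at hm
    rw [Function.update_of_ne (by omega)]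

theorem inj_gen {l : List ℕ} (hl : ∀ i ∈ l, i < D.rank) {P : ℕ → Prop} (hP : Closed D l P) {g : G}
    (hg : g ∈ S.gen P) (h1 : S.θ g = 1) : g = 1 := by
  have hl' : ∀ i ∈ l.reverse, i < D.rank := fun i hi => hl i (List.mem_reverse.1 hi)
  obtain ⟨t, rfl⟩ := S.exists_prodA hl hP (D.nroots - D.nroots / 2) (D.nroots / 2) (by omega) g
    (S.gen_mono (fun s hs => ⟨hs, (Weight.pos_iff hD (hP.pos s hs).1).1 (hP.pos s hs)⟩) hg)
  set m := List.range' (D.nroots / 2) (D.nroots - D.nroots / 2) with hm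
  have hmlt : ∀ k ∈ m, k < D.nroots := fun k hk => by rw [hm, List.mem_range'_1] at hk; omega
  have hex : ∀ k, ∃ η : F, (η = 1 ∨ η = -1) ∧ (k < D.nroots → ∀ u : F,
      N.nW hD F l * xGL hD F (N.act D l.reverse k) u * (N.nW hD F l)⁻¹ = xGL hD F k (η * u)) := by
    intro k
    by_cases hk : k < D.nroots
    · obtain ⟨η, hη, h⟩ := N.nW_conj (F := F) hD hl (N.act_lt hD hl' hk)
      refine ⟨(η : F), by rcases hη with rfl | rfl <;> simp, fun _ u => ?_⟩
      rw [h, Weyl.act_act_reverse hD hl hk]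
    · exact ⟨1, Or.inl rfl, fun h => absurd h hk⟩
  choose η hη1 hη2 using hex
  have key : ∀ m : List ℕ, (∀ k ∈ m, k < D.nroots) →
      N.nW hD F l * S.θ (S.prodA l t m) * (N.nW hD F l)⁻¹ = U.prodL hD (fun k => η k * t k) m := by
    intro m hm
    induction m with
    | nil => simp [prodA, U.prodL]
    | cons k m ih =>
      have hk := hm k List.mem_cons_self
      rw [U.prodL_cons, ← hη2 k hk, ← ih fun j hj => hm j (List.mem_cons_of_mem _ hj)]
      simp only [prodA, List.map_cons, List.prod_cons, map_mul]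
      rw [S.θX _ (N.act_lt hD hl' hk)]
      group
  have h2 := key m hmlt
  rw [h1, mul_one, mul_inv_cancel] at h2
  have h0 : U.prodL hD (fun _ => (0 : F)) m = 1 :=
    List.prod_eq_one fun x hx => by obtain ⟨k, -, rfl⟩ := List.mem_map.1 hx; exact xGL_zero hD k
  have ht : ∀ k ∈ m, t k = 0 := fun k hk => by
    have := U.prod_unique hD (D.nroots - D.nroots / 2) (D.nroots / 2) (fun k => η k * t k) (fun _ => 0) le_rfl
      (by omega) (h2.symm.trans h0.symm) k hk
    rcases hη1 k with e | e <;> simpa [e] using this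
  exact List.prod_eq_one fun x hx => by
    obtain ⟨k, hk, rfl⟩ := List.mem_map.1 hx
    rw [ht k hk]; exact S.X_zero (N.act_lt hD hl' (hmlt k hk))

theorem eq_of_θ {l : List ℕ} (hl : ∀ i ∈ l, i < D.rank) {P : ℕ → Prop} (hP : Closed D l P) {a b : G}
    (ha : a ∈ S.gen P) (hb : b ∈ S.gen P) (h : S.θ a = S.θ b) : a = b :=
  mul_inv_eq_one.1 (S.inj_gen hl hP (mul_mem ha (inv_mem hb)) (by rw [map_mul, map_inv, h, mul_inv_cancel]))

end Sys

/-- roots with a coefficient of a given sign off the node `i` -/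
def Off (hD : D ∈ dataList) (i : ℕ) (σ : ℤ) (s : ℕ) : Prop :=
  s < D.nroots ∧ ∃ k, k < D.rank ∧ k ≠ i ∧ 0 < σ * Weight.coef hD k s

theorem Off.sign (hD : D ∈ dataList) {i : ℕ} {σ : ℤ} (hσ : σ = 1 ∨ σ = -1) {s : ℕ} (h : Off hD i σ s) :
    ∀ j, j < D.rank → 0 ≤ σ * Weight.coef hD j s := by
  obtain ⟨hs, k, hk, -, hpos⟩ := h
  intro j hj
  rcases Checks.pos_or_neg hD hs with hp | hn
  · have := Weight.coef_nonneg hD hk hp
    have := Weight.coef_nonneg hD hj hp
    rcases hσ with rfl | rfl <;> linarith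
  · have := RootGen.coef_nonpos hD hk hn
    have := RootGen.coef_nonpos hD hj hn
    rcases hσ with rfl | rfl <;> linarith

theorem off_stable (hD : D ∈ dataList) {i r : ℕ} (hi : i < D.rank)
    (hr : r = D.simple i ∨ r = D.neg (D.simple i)) {σ : ℤ} :
    ∀ s, Off hD i σ s → s < D.nroots ∧ s ≠ D.neg r ∧ ∀ c ∈ D.commTerms r s, Off hD i σ c.1 := by
  have hp := Rel.simple_lt hD hi
  have hrl : r < D.nroots := by rcases hr with rfl | rfl; exacts [hp, Checks.neg_lt hD hp]
  have hr0 : ∀ k, k < D.rank → k ≠ i → Weight.coef hD k r = 0 := by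
    intro k hk hne
    rcases hr with rfl | rfl
    · rw [Weight.coef_simple hD hi hk, if_neg (Ne.symm hne)]
    · rw [Weight.coef_neg hD hk hp, Weight.coef_simple hD hi hk, if_neg (Ne.symm hne), neg_zero]
  rintro s ⟨hs, k, hk, hki, hpos⟩
  refine ⟨hs, fun e => ?_, fun c hc => ?_⟩
  · rw [e, Weight.coef_neg hD hk hrl, hr0 k hk hki, neg_zero, mul_zero] at hpos
    exact lt_irrefl _ hpos
  · obtain ⟨hcl, hcc⟩ := RootGen.commTerms_coef hD hk hrl hs hc
    refine ⟨hcl, k, hk, hki, ?_⟩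
    rw [hcc, hr0 k hk hki, mul_zero, zero_add, mul_left_comm]
    exact mul_pos (by exact_mod_cast (Orbit.commTerms_exp hc).2) hpos

theorem off_closed (hD : D ∈ dataList) (i : ℕ) {σ : ℤ} (hσ : σ = 1 ∨ σ = -1) :
    ∃ l : List ℕ, (∀ j ∈ l, j < D.rank) ∧ Closed D l (Off hD i σ) := by
  have hcomm : ∀ r s, Off hD i σ r → Off hD i σ s → ∀ c ∈ D.commTerms r s, Off hD i σ c.1 := by
    intro r s hr hs c hc
    obtain ⟨hs1, k, hk, hki, hpos⟩ := hs
    obtain ⟨hcl, hcc⟩ := RootGen.commTerms_coef hD hk hr.1 hs1 hc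
    refine ⟨hcl, k, hk, hki, ?_⟩
    have h1 := hr.sign hD hσ k hk
    rw [hcc, mul_add, mul_left_comm σ, mul_left_comm σ]
    exact add_pos_of_nonneg_of_pos (mul_nonneg (Int.natCast_nonneg _) h1)
      (mul_pos (by exact_mod_cast (Orbit.commTerms_exp hc).2) hpos)
  rcases hσ with rfl | rfl
  · refine ⟨[], by simp, fun r h => h.1, fun r ⟨hr, k, hk, _, hpos⟩ => ?_, hcomm⟩
    show D.IsPosRoot r
    exact RootGen.pos_of_coef_pos hD hk hr (by simpa using hpos)
  · obtain ⟨l, hl, h⟩ := Opposite.exists_w0 hD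
    refine ⟨l, hl, fun r h => h.1, fun r ⟨hr, k, hk, _, hpos⟩ => ?_, hcomm⟩
    refine (Checks.pos_or_neg hD (N.act_lt hD hl hr)).resolve_right fun hn => ?_
    have := Weight.coef_nonneg hD hk ((h r hr).1 hn)
    linarith

theorem off_cases (hD : D ∈ dataList) {i s : ℕ} (hs : s < D.nroots) (h1 : s ≠ D.simple i)
    (h2 : s ≠ D.neg (D.simple i)) : Off hD i 1 s ∨ Off hD i (-1) s := by
  rcases Checks.pos_or_neg hD hs with hp | hn
  · obtain ⟨k, hk, hki, hpos⟩ := RootGen.exists_other_coef hD hp h1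
    exact Or.inl ⟨hs, k, hk, hki, by simpa using hpos⟩
  · have hq := Checks.neg_pos_of_neg hD hs hn
    obtain ⟨k, hk, hki, hpos⟩ := RootGen.exists_other_coef hD hq (i := i) fun e => h2 (by
      rw [← e, Checks.neg_neg_root hD hs])
    rw [Weight.coef_neg hD hk hs] at hpos
    exact Or.inr ⟨hs, k, hk, hki, by simpa using hpos⟩

/-- a commutator formula containing a given root with coefficient `±1` -/
def splitOK (D : ChevalleyDatum) (a q : ℕ) : Bool :=
  let avoid := fun s => s != D.simple a && s != D.neg (D.simple a)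
  (List.range D.nroots).any fun r => avoid r && (List.range D.nroots).any fun s =>
    avoid s && s != r && s != D.neg r &&
      let T := D.commTerms r s
      (List.range T.length).any fun k =>
        ((T.getD k (0, 0, 0, 0)).1 == q && ((T.getD k (0, 0, 0, 0)).2.1 == 1 || (T.getD k (0, 0, 0, 0)).2.1 == -1) &&
          ((T.getD k (0, 0, 0, 0)).2.2.1 == 1 || (T.getD k (0, 0, 0, 0)).2.2.2 == 1)) &&
        (T.take k ++ T.drop (k + 1)).all fun c => avoid c.1

theorem exists_split (hD : D ∈ dataList) {a q : ℕ} (ha : a < D.rank)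
    (hq : q = D.simple a ∨ q = D.neg (D.simple a)) :
    ∃ r s : ℕ, ∃ pre post : List (ℕ × ℤ × ℕ × ℕ), ∃ M : ℤ, ∃ e f : ℕ, r < D.nroots ∧ s < D.nroots ∧ s ≠ r ∧ s ≠ D.neg r ∧
      D.commTerms r s = pre ++ (q, M, e, f) :: post ∧ (M = 1 ∨ M = -1) ∧ (e = 1 ∨ f = 1) ∧
      ∀ x, (x = r ∨ x = s ∨ ∃ c ∈ pre ++ post, x = c.1) → x ≠ D.simple a ∧ x ≠ D.neg (D.simple a) := by
  have key : ∀ D' ∈ dataList, ((List.range D'.rank).all fun a =>
      splitOK D' a (D'.simple a) && splitOK D' a (D'.neg (D'.simple a))) = true := by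
    intro D' hD'
    simp only [dataList, List.mem_cons, List.not_mem_nil, or_false] at hD'
    rcases hD' with rfl | rfl | rfl | rfl | rfl | rfl | rfl <;> decide +kernel
  have h0 := List.all_eq_true.1 (key D hD) a (List.mem_range.2 ha)
  rw [Bool.and_eq_true] at h0
  have h : splitOK D a q = true := by rcases hq with rfl | rfl; exacts [h0.1, h0.2]
  simp only [splitOK, List.any_eq_true, List.mem_range, Bool.and_eq_true, Bool.or_eq_true, bne_iff_ne, beq_iff_eq,
    List.all_eq_true] at h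
  obtain ⟨r, hr, hra, s, hs, ⟨⟨hsa, hne⟩, hneg⟩, k, hk, ⟨⟨hq1, hM⟩, hef⟩, hrest⟩ := h
  rw [List.getD_eq_getElem _ _ hk] at hq1 hM hef
  refine ⟨r, s, (D.commTerms r s).take k, (D.commTerms r s).drop (k + 1), ((D.commTerms r s)[k]).2.1,
    ((D.commTerms r s)[k]).2.2.1, ((D.commTerms r s)[k]).2.2.2, hr, hs, hne, hneg, ?_, hM, hef, ?_⟩
  · rw [← hq1]
    show D.commTerms r s = (D.commTerms r s).take k ++ (D.commTerms r s)[k] :: (D.commTerms r s).drop (k + 1)
    rw [List.getElem_cons_drop, List.take_append_drop]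
  · rintro x (rfl | rfl | ⟨c, hc, rfl⟩)
    exacts [hra, hsa, hrest c hc]

namespace Sys

variable {hD : D ∈ dataList} {G : Type*} [Group G] (S : Sys hD F G)

/-- a formula for conjugation that holds off `±p` holds everywhere -/
theorem extend_conj {a q : ℕ} (ha : a < D.rank) (hq : q = D.simple a ∨ q = D.neg (D.simple a)) (g : G)
    (τ : ℕ → ℕ) (c : ℕ → F)
    (hoff : ∀ s, s < D.nroots → s ≠ D.simple a → s ≠ D.neg (D.simple a) → ∀ t : F,
      g * S.X s t * g⁻¹ = S.X (τ s) (c s * t))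
    (hτ : ∀ r s, r < D.nroots → s < D.nroots → s ≠ r → s ≠ D.neg r →
      τ r < D.nroots ∧ τ s < D.nroots ∧ τ s ≠ τ r ∧ τ s ≠ D.neg (τ r) ∧ ∀ t u : F,
        (D.commWord F r s t u).map (fun p => (τ p.1, c p.1 * p.2)) = D.commWord F (τ r) (τ s) (c r * t) (c s * u))
    (t : F) : g * S.X q t * g⁻¹ = S.X (τ q) (c q * t) := by
  obtain ⟨r, s, pre, post, M, e, f, hr, hs, hne, hneg, hT, hM, hef, havoid⟩ := exists_split hD ha hq
  obtain ⟨hτr, hτs, hτne, hτneg, hword⟩ := hτ r s hr hs hne hneg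
  obtain ⟨T₀, U₀, hval⟩ : ∃ T₀ U₀ : F, (M : F) * (-T₀) ^ e * U₀ ^ f = t := by
    have hMM : (M : F) * (M : F) = 1 := by rcases hM with rfl | rfl <;> simp
    rcases hef with rfl | rfl
    · exact ⟨-((M : F) * t), 1, by rw [neg_neg, pow_one, one_pow, mul_one, ← mul_assoc, hMM, one_mul]⟩
    · exact ⟨-1, (M : F) * t, by rw [neg_neg, one_pow, mul_one, pow_one, ← mul_assoc, hMM, one_mul]⟩
  let φ : G ≃* G := MulAut.conj g
  have hφ : ∀ x, x < D.nroots → x ≠ D.simple a → x ≠ D.neg (D.simple a) → ∀ v : F,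
      φ (S.X x v) = S.X (τ x) (c x * v) := fun x hx h1 h2 v => hoff x hx h1 h2 v
  have hwφ : ∀ w : List (ℕ × F), (∀ p ∈ w, p.1 < D.nroots ∧ p.1 ≠ D.simple a ∧ p.1 ≠ D.neg (D.simple a)) →
      φ (w.map fun p => S.X p.1 p.2).prod = ((w.map fun p => (τ p.1, c p.1 * p.2)).map fun p => S.X p.1 p.2).prod := by
    intro w hw
    induction w with
    | nil => simp
    | cons p w ih =>
      obtain ⟨h1, h2, h3⟩ := hw p List.mem_cons_self
      simp only [List.map_cons, List.prod_cons, map_mul]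
      rw [hφ p.1 h1 h2 h3, ih fun q hq => hw q (List.mem_cons_of_mem _ hq)]
  set mk : ℕ × ℤ × ℕ × ℕ → ℕ × F := fun d => (d.1, (d.2.1 : F) * (-T₀) ^ d.2.2.1 * U₀ ^ d.2.2.2) with hmk
  have hcw : D.commWord F r s T₀ U₀ = pre.map mk ++ (q, t) :: post.map mk := by
    unfold ChevalleyDatum.commWord
    rw [hT, List.map_append, List.map_cons]
    show pre.map mk ++ (q, (M : F) * (-T₀) ^ e * U₀ ^ f) :: post.map mk = _
    rw [hval]
  have hlt : ∀ d ∈ pre ++ post, d.1 < D.nroots := fun d hd => Orbit.commTerms_lt (Rel.tab_valid hD) hr hs (by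
    rw [hT]
    rcases List.mem_append.1 hd with h | h
    · exact List.mem_append_left _ h
    · exact List.mem_append_right _ (List.mem_cons_of_mem _ h))
  have hsub : ∀ l : List (ℕ × ℤ × ℕ × ℕ), (∀ d ∈ l, d ∈ pre ++ post) →
      ∀ p ∈ l.map mk, p.1 < D.nroots ∧ p.1 ≠ D.simple a ∧ p.1 ≠ D.neg (D.simple a) := by
    intro l hl p hp
    obtain ⟨d, hd, rfl⟩ := List.mem_map.1 hp
    exact ⟨hlt d (hl d hd), havoid d.1 (Or.inr (Or.inr ⟨d, hl d hd, rfl⟩))⟩
  have h1 := congrArg φ (S.comm r s hr hs hne hneg T₀ U₀)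
  rw [hcw] at h1
  simp only [map_mul, List.map_append, List.map_cons, List.prod_append, List.prod_cons] at h1
  rw [hφ r hr (havoid r (Or.inl rfl)).1 (havoid r (Or.inl rfl)).2,
    hφ s hs (havoid s (Or.inr (Or.inl rfl))).1 (havoid s (Or.inr (Or.inl rfl))).2,
    hwφ _ (hsub pre fun d hd => List.mem_append_left _ hd),
    hwφ _ (hsub post fun d hd => List.mem_append_right _ hd)] at h1
  have h2 := S.comm (τ r) (τ s) hτr hτs hτne hτneg (c r * T₀) (c s * U₀)
  rw [← hword T₀ U₀, hcw] at h2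
  simp only [List.map_append, List.map_cons, List.prod_append, List.prod_cons] at h2
  have h3 := h1.symm.trans h2
  exact mul_right_cancel (mul_left_cancel (mul_left_cancel h3))

/-- `n̄_r(t)` -/
def n (r : ℕ) (t : F) : G := S.X r t * S.X (D.neg r) (-t⁻¹) * S.X r t

/-- `h̄_r(t)` -/
def h (r : ℕ) (t : F) : G := S.n r t * S.n r (-1)

theorem θ_n {r : ℕ} (hr : r < D.nroots) (t : F) : S.θ (S.n r t) = nGL hD F r t := by
  rw [n, map_mul, map_mul, S.θX r hr, S.θX _ (Checks.neg_lt hD hr)]; rfl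

theorem θ_h {r : ℕ} (hr : r < D.nroots) (t : F) : S.θ (S.h r t) = hGL hD F r t := by
  rw [h, map_mul, S.θ_n hr, S.θ_n hr]; rfl

theorem n_mem_normalizer {i : ℕ} (hi : i < D.rank) (σ : ℤ) (t : F) :
    S.n (D.simple i) t ∈ Subgroup.normalizer (S.gen (Off hD i σ) : Set G) := by
  have hp := Rel.simple_lt hD hi
  have h1 := S.mem_normalizer hp (off_stable hD hi (σ := σ) (Or.inl rfl)) t
  exact mul_mem (mul_mem h1 (S.mem_normalizer (Checks.neg_lt hD hp) (off_stable hD hi (Or.inr rfl)) (-t⁻¹))) h1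

theorem off_conj {i : ℕ} (hi : i < D.rank) (g : G)
    (hg : ∀ σ : ℤ, g ∈ Subgroup.normalizer (S.gen (Off hD i σ) : Set G))
    {s : ℕ} (hs : s < D.nroots) (h1 : s ≠ D.simple i) (h2 : s ≠ D.neg (D.simple i)) {s' : ℕ}
    (hs' : ∀ σ, Off hD i σ s → Off hD i σ s') (t t' : F)
    (hθ : S.θ g * xGL hD F s t * (S.θ g)⁻¹ = xGL hD F s' t') : g * S.X s t * g⁻¹ = S.X s' t' := by
  obtain ⟨σ, hσ, hoff⟩ : ∃ σ, (σ = 1 ∨ σ = -1) ∧ Off hD i σ s := by
    rcases off_cases hD hs h1 h2 with h | h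
    exacts [⟨1, Or.inl rfl, h⟩, ⟨-1, Or.inr rfl, h⟩]
  obtain ⟨l, hl, hP⟩ := off_closed hD i hσ
  have hoff' := hs' σ hoff
  refine S.eq_of_θ hl hP ((Subgroup.mem_normalizer_iff.1 (hg σ) _).1 (S.mem_gen hoff t)) (S.mem_gen hoff' t') ?_
  rw [map_mul, map_mul, map_inv, S.θX s hs, S.θX s' hoff'.1, hθ]

theorem off_reflect {i : ℕ} (hi : i < D.rank) {σ : ℤ} {s : ℕ} (h : Off hD i σ s) :
    Off hD i σ (D.reflectRoot i s) := by
  obtain ⟨hs, k, hk, hki, hpos⟩ := h
  exact ⟨Rel.reflectRoot_lt hD hi hs, k, hk, hki, by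
    rwa [Weyl.coef_reflect hD hi hk hs, if_neg (Ne.symm hki), sub_zero]⟩

/-- conjugation by a fundamental monomial element -/
theorem n_conj {i s : ℕ} (hi : i < D.rank) (hs : s < D.nroots) (t : F) :
    S.n (D.simple i) 1 * S.X s t * (S.n (D.simple i) 1)⁻¹ =
      S.X (D.reflectRoot i s) ((Rel.eta hD i s : F) * t) := by
  have hp := Rel.simple_lt hD hi
  have hoff : ∀ s, s < D.nroots → s ≠ D.simple i → s ≠ D.neg (D.simple i) → ∀ t : F,
      S.n (D.simple i) 1 * S.X s t * (S.n (D.simple i) 1)⁻¹ =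
        S.X (D.reflectRoot i s) ((Rel.eta hD i s : F) * t) := fun s hs h1 h2 t => by
    refine S.off_conj hi _ (fun σ => S.n_mem_normalizer hi σ 1) hs h1 h2 (fun σ h => off_reflect hi h) t _ ?_
    rw [S.θ_n hp]; exact Rel.conj_GL hD hi hs t
  by_cases h1 : s = D.simple i ∨ s = D.neg (D.simple i)
  · refine S.extend_conj hi h1 _ _ (fun s => (Rel.eta hD i s : F)) hoff (fun r s hr hs hne hneg => ?_) t
    have hw := Rel.reflectRoot_lt hD hi hr
    refine ⟨hw, Rel.reflectRoot_lt hD hi hs, fun e => hne ?_, fun e => hneg ?_, fun t u => ?_⟩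
    · rw [← Rel.reflect_invol hD hi hs, e, Rel.reflect_invol hD hi hr]
    · rw [← Rel.reflect_invol hD hi hs, e, Rel.reflect_neg hD hi hw, Rel.reflect_invol hD hi hr]
    · have R := Rel.refl hD hi
      simp only [ChevalleyDatum.commWord, List.map_map, Function.comp_def]
      conv_rhs => rw [← R.eq r hr, ← R.eq s hs, Tables.commTerms_map (Rel.tab_valid hD) hi hr hs,
        Tables.Tab.mapTerms, List.map_map]
      refine List.map_congr_left fun d hd => ?_
      simp only [Function.comp_apply]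
      rw [← R.eq _ (Orbit.commTerms_lt (Rel.tab_valid hD) hr hs hd)]
      congr 1
      set x := (Rel.eta hD i r : F)
      set y := (Rel.eta hD i s : F)
      set z := (Rel.eta hD i d.1 : F)
      show z * ((d.2.1 : F) * (-t) ^ d.2.2.1 * u ^ d.2.2.2) =
        ((d.2.1 * Rel.eta hD i d.1 * Rel.eta hD i r ^ d.2.2.1 * Rel.eta hD i s ^ d.2.2.2 : ℤ) : F) *
          (-(x * t)) ^ d.2.2.1 * (y * u) ^ d.2.2.2
      push_cast
      rw [show -(x * t) = x * -t by ring, mul_pow, mul_pow]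
      have e1 : x ^ d.2.2.1 * x ^ d.2.2.1 = 1 := by rw [← mul_pow, Rel.etaF_sq, one_pow]
      have e2 : y ^ d.2.2.2 * y ^ d.2.2.2 = 1 := by rw [← mul_pow, Rel.etaF_sq, one_pow]
      linear_combination (-((d.2.1 : F) * (-t) ^ d.2.2.1 * u ^ d.2.2.2 * z) * (y ^ d.2.2.2 * y ^ d.2.2.2)) * e1 +
        (-((d.2.1 : F) * (-t) ^ d.2.2.1 * u ^ d.2.2.2 * z)) * e2
  · push Not at h1
    exact hoff s hs h1.1 h1.2 t

/-- conjugation by `h̄_i(c)` -/
theorem h_conj {i s : ℕ} (hi : i < D.rank) (hs : s < D.nroots) {c : F} (hc : c ≠ 0) (t : F) :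
    S.h (D.simple i) c * S.X s t * (S.h (D.simple i) c)⁻¹ = S.X s (c ^ D.cartan i s * t) := by
  have hp := Rel.simple_lt hD hi
  have hoff : ∀ s, s < D.nroots → s ≠ D.simple i → s ≠ D.neg (D.simple i) → ∀ t : F,
      S.h (D.simple i) c * S.X s t * (S.h (D.simple i) c)⁻¹ = S.X s (c ^ D.cartan i s * t) := fun s hs h1 h2 t => by
    refine S.off_conj hi _ (fun σ => mul_mem (S.n_mem_normalizer hi σ c) (S.n_mem_normalizer hi σ (-1)))
      hs h1 h2 (fun σ h => h) t _ ?_
    rw [show S.n (D.simple i) c * S.n (D.simple i) (-1) = S.h (D.simple i) c from rfl, S.θ_h hp, Weight.h_conj_GL hD hp hs hc, Diag.pairing_simple hD hi]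
  by_cases h1 : s = D.simple i ∨ s = D.neg (D.simple i)
  · refine S.extend_conj hi h1 _ id (fun s => c ^ D.cartan i s) hoff
      (fun r s hr hs hne hneg => ⟨hr, hs, hne, hneg, fun t u => ?_⟩) t
    simp only [ChevalleyDatum.commWord, List.map_map, Function.comp_def, id_eq]
    refine List.map_congr_left fun d hd => ?_
    congr 1
    obtain ⟨hdl, -⟩ := RootGen.commTerms_coef hD hi hr hs hd
    have e : D.cartan i d.1 = d.2.2.1 * D.cartan i r + d.2.2.2 * D.cartan i s := by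
      rw [Weight.cartan_eq_sum hD hi hdl, Weight.cartan_eq_sum hD hi hr, Weight.cartan_eq_sum hD hi hs,
        Finset.mul_sum, Finset.mul_sum, ← Finset.sum_add_distrib]
      exact Finset.sum_congr rfl fun j hj => by
        rw [(RootGen.commTerms_coef hD (Finset.mem_range.1 hj) hr hs hd).2]; ring
    rw [e, zpow_add₀ hc, mul_comm (d.2.2.1 : ℤ), mul_comm (d.2.2.2 : ℤ), zpow_mul, zpow_mul, zpow_natCast, zpow_natCast,
      show -(c ^ D.cartan i r * t) = c ^ D.cartan i r * -t by ring, mul_pow, mul_pow]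
    ring
  · push Not at h1
    exact hoff s hs h1.1 h1.2 t

end Sys

end CfsgLib.Chev.Abstract
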