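import Cfsg.Agent.Lib.Chev.Abstract.Conj
import Cfsg.Agent.Lib.Chev.Group.BN

/-! The kernel of a group with Steinberg's relations over its Chevalley group. -/
set_option autoImplicit false
open Cfsg.Lie
open scoped Matrix MatrixGroups

namespace CfsgLib.Chev.Abstract

open CfsgLib.Chev CfsgLib.Chev.Checks CfsgLib.Chev.Basic

variable {D : ChevalleyDatum} {F : Type*} [Field F] {hD : D ∈ dataList} {G : Type*} [Group G]

namespace Sys

variable (S : Sys hD F G)

/-- `n̄_i` -/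
abbrev ni (i : ℕ) : G := S.n (D.simple i) 1

/-- `H̄` -/
abbrev Hbar : Subgroup G :=
  Subgroup.closure {g | ∃ (i : ℕ) (t : F), i < D.rank ∧ t ≠ 0 ∧ g = S.h (D.simple i) t}

/-- `Ū` -/
abbrev Ubar : Subgroup G := S.gen fun s => D.IsPosRoot s

theorem n_neg {r : ℕ} (hr : r < D.nroots) (t : F) : S.n r (-t) = (S.n r t)⁻¹ := by
  rw [n, n, mul_inv_rev, mul_inv_rev, S.X_inv hr, S.X_inv (Checks.neg_lt hD hr), mul_assoc, inv_neg, neg_neg]

theorem n_eq_h {r : ℕ} (hr : r < D.nroots) (t : F) : S.n r t = S.h r t * S.n r 1 := by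
  rw [h, S.n_neg hr]; group

theorem h_mem {i : ℕ} (hi : i < D.rank) {t : F} (ht : t ≠ 0) : S.h (D.simple i) t ∈ S.Hbar :=
  Subgroup.subset_closure ⟨i, t, hi, ht, rfl⟩

theorem ni_sq_mem {i : ℕ} (hi : i < D.rank) : S.ni i * S.ni i ∈ S.Hbar := by
  have e : S.ni i * S.ni i = (S.h (D.simple i) (-1))⁻¹ := by
    rw [h, S.n_neg (Rel.simple_lt hD hi), mul_inv_rev, inv_inv]
  rw [e]
  exact inv_mem (S.h_mem hi (neg_ne_zero.2 one_ne_zero))

theorem Hbar_conj {k : G} (hk : k ∈ S.Hbar) :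
    ∀ s, s < D.nroots → ∃ a : F, a ≠ 0 ∧ ∀ t, k * S.X s t * k⁻¹ = S.X s (a * t) := by
  induction hk using Subgroup.closure_induction with
  | mem g hg =>
    obtain ⟨i, t, hi, ht, rfl⟩ := hg
    exact fun s hs => ⟨_, zpow_ne_zero _ ht, fun u => S.h_conj hi hs ht u⟩
  | one => exact fun s _ => ⟨1, one_ne_zero, fun t => by simp⟩
  | mul a b _ _ pa pb =>
    intro s hs
    obtain ⟨x, hx, hxa⟩ := pa s hs
    obtain ⟨y, hy, hyb⟩ := pb s hs
    refine ⟨x * y, mul_ne_zero hx hy, fun t => ?_⟩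
    rw [mul_assoc x, ← hxa, ← hyb]; group
  | inv a _ pa =>
    intro s hs
    obtain ⟨x, hx, hxa⟩ := pa s hs
    refine ⟨x⁻¹, inv_ne_zero hx, fun t => ?_⟩
    have := hxa (x⁻¹ * t)
    rw [← mul_assoc x, mul_inv_cancel₀ hx, one_mul] at this
    rw [← this]; group

theorem Hbar_normalizes {k : G} (hk : k ∈ S.Hbar) {P : ℕ → Prop} (hP : ∀ s, P s → s < D.nroots) {g : G}
    (hg : g ∈ S.gen P) : k * g * k⁻¹ ∈ S.gen P := by
  have : S.gen P ≤ (S.gen P).comap (MulAut.conj k).toMonoidHom := S.gen_le fun s hs t => by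
    obtain ⟨a, -, ha⟩ := S.Hbar_conj hk s (hP s hs)
    rw [Subgroup.mem_comap, MulEquiv.coe_toMonoidHom, MulAut.conj_apply, ha]
    exact S.mem_gen hs _
  exact this hg

theorem θ_Hbar {k : G} (hk : k ∈ S.Hbar) : S.θ k ∈ D.diagonalSubgroup F := by
  have h : S.Hbar ≤ (D.diagonalSubgroup F).comap S.θ := (Subgroup.closure_le _).2 (by
    rintro g ⟨i, t, hi, ht, rfl⟩
    rw [SetLike.mem_coe, Subgroup.mem_comap, S.θ_h (Rel.simple_lt hD hi)]
    exact hGL_mem_diagonal hD (Rel.simple_lt hD hi) ht)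
  exact h hk

theorem θ_Ubar {u : G} (hu : u ∈ S.Ubar) : S.θ u ∈ D.posUnipotent F := by
  have h : S.Ubar ≤ (D.posUnipotent F).comap S.θ := S.gen_le fun s hs t => by
    rw [Subgroup.mem_comap, S.θX s hs.1]; exact xGL_mem_pos hD hs t
  exact h hu

theorem ni_conj_h {i j : ℕ} (hi : i < D.rank) (hj : j < D.rank) {c : F} (hc : c ≠ 0) :
    S.ni i * S.h (D.simple j) c * (S.ni i)⁻¹ ∈ S.Hbar := by
  have hp := Rel.simple_lt hD hi
  set a := c ^ D.cartan j (D.simple i) with ha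
  have e : S.h (D.simple j) c * S.ni i * (S.h (D.simple j) c)⁻¹ = S.h (D.simple i) a * S.ni i := by
    rw [ni, ← S.n_eq_h hp a]
    have h1 := S.h_conj hj hp hc 1
    have h2 := S.h_conj hj (Checks.neg_lt hD hp) hc (-(1 : F)⁻¹)
    rw [mul_one] at h1
    rw [Weight.cartan_neg hD hj hp, zpow_neg, inv_one, mul_neg, mul_one] at h2
    rw [n, inv_one, show S.h (D.simple j) c * (S.X (D.simple i) 1 * S.X (D.neg (D.simple i)) (-1) * S.X (D.simple i) 1) *
        (S.h (D.simple j) c)⁻¹ = (S.h (D.simple j) c * S.X (D.simple i) 1 * (S.h (D.simple j) c)⁻¹) *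
        (S.h (D.simple j) c * S.X (D.neg (D.simple i)) (-1) * (S.h (D.simple j) c)⁻¹) *
        (S.h (D.simple j) c * S.X (D.simple i) 1 * (S.h (D.simple j) c)⁻¹) by group, h1, h2, n]
  have e2 : S.ni i * S.h (D.simple j) c * (S.ni i)⁻¹ = (S.h (D.simple i) a)⁻¹ * S.h (D.simple j) c :=
    calc S.ni i * S.h (D.simple j) c * (S.ni i)⁻¹
        = (S.h (D.simple i) a)⁻¹ * (S.h (D.simple i) a * S.ni i) * S.h (D.simple j) c * (S.ni i)⁻¹ := by group
      _ = _ := by rw [← e]; group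
  rw [e2]
  exact mul_mem (inv_mem (S.h_mem hi (zpow_ne_zero _ hc))) (S.h_mem hj hc)

theorem ni_conj_Hbar {i : ℕ} (hi : i < D.rank) {k : G} (hk : k ∈ S.Hbar) :
    S.ni i * k * (S.ni i)⁻¹ ∈ S.Hbar := by
  have h : S.Hbar ≤ S.Hbar.comap (MulAut.conj (S.ni i)).toMonoidHom := (Subgroup.closure_le _).2 (by
    rintro g ⟨j, t, hj, ht, rfl⟩
    exact S.ni_conj_h hi hj ht)
  exact h hk

theorem ni_inv_conj_Hbar {i : ℕ} (hi : i < D.rank) {k : G} (hk : k ∈ S.Hbar) :
    (S.ni i)⁻¹ * k * S.ni i ∈ S.Hbar := by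
  have hq := S.ni_sq_mem hi
  rw [show (S.ni i)⁻¹ * k * S.ni i = (S.ni i * S.ni i)⁻¹ * (S.ni i * k * (S.ni i)⁻¹) * (S.ni i * S.ni i) by group]
  exact mul_mem (mul_mem (inv_mem hq) (S.ni_conj_Hbar hi hk)) hq

/-- product of fundamental monomial elements -/
def nW (l : List ℕ) : G := (l.map fun i => S.ni i).prod

theorem nW_cons (i : ℕ) (l : List ℕ) : S.nW (i :: l) = S.ni i * S.nW l := by simp [nW]

theorem nW_append (l m : List ℕ) : S.nW (l ++ m) = S.nW l * S.nW m := by simp [nW]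

theorem θ_nW {l : List ℕ} (hl : ∀ i ∈ l, i < D.rank) : S.θ (S.nW l) = N.nW hD F l := by
  induction l with
  | nil => simp [nW, N.nW]
  | cons i l ih =>
    rw [nW_cons, N.nW_cons, map_mul, ih fun j hj => hl j (List.mem_cons_of_mem _ hj),
      S.θ_n (Rel.simple_lt hD (hl i List.mem_cons_self))]

theorem nW_conj {l : List ℕ} (hl : ∀ i ∈ l, i < D.rank) {s : ℕ} (hs : s < D.nroots) :
    ∃ η : F, (η = 1 ∨ η = -1) ∧ ∀ t : F, S.nW l * S.X s t * (S.nW l)⁻¹ = S.X (N.act D l s) (η * t) := by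
  induction l with
  | nil => exact ⟨1, Or.inl rfl, fun t => by simp [nW, N.act]⟩
  | cons i l ih =>
    have hl' : ∀ j ∈ l, j < D.rank := fun j hj => hl j (List.mem_cons_of_mem _ hj)
    obtain ⟨η, hη, h⟩ := ih hl'
    refine ⟨(Rel.eta hD i (N.act D l s) : F) * η, ?_, fun t => ?_⟩
    · rcases Rel.eta_cases hD i (N.act D l s) with e | e <;> rcases hη with f | f <;> simp [e, f]
    · rw [nW_cons, mul_inv_rev,
        show S.ni i * S.nW l * S.X s t * ((S.nW l)⁻¹ * (S.ni i)⁻¹) =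
          S.ni i * (S.nW l * S.X s t * (S.nW l)⁻¹) * (S.ni i)⁻¹ by group,
        h, S.n_conj (hl i List.mem_cons_self) (N.act_lt hD hl' hs), mul_assoc]
      rfl

theorem nW_conj_Hbar {l : List ℕ} (hl : ∀ i ∈ l, i < D.rank) {k : G} (hk : k ∈ S.Hbar) :
    (S.nW l)⁻¹ * k * S.nW l ∈ S.Hbar := by
  induction l generalizing k with
  | nil => simpa [nW] using hk
  | cons i l ih =>
    rw [nW_cons, mul_inv_rev,
      show (S.nW l)⁻¹ * (S.ni i)⁻¹ * k * (S.ni i * S.nW l) = (S.nW l)⁻¹ * ((S.ni i)⁻¹ * k * S.ni i) * S.nW l by group]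
    exact ih (fun j hj => hl j (List.mem_cons_of_mem _ hj)) (S.ni_inv_conj_Hbar (hl i List.mem_cons_self) hk)

theorem conj_n_word {l : List ℕ} (hl : ∀ i ∈ l, i < D.rank) {r : ℕ} (hr : r < D.nroots) :
    ∃ η : F, (η = 1 ∨ η = -1) ∧ S.nW l * S.n r 1 * (S.nW l)⁻¹ = S.n (N.act D l r) η := by
  induction l with
  | nil => exact ⟨1, Or.inl rfl, by simp [nW, N.act]⟩
  | cons i l ih =>
    have hl' : ∀ j ∈ l, j < D.rank := fun j hj => hl j (List.mem_cons_of_mem _ hj)
    have hi := hl i List.mem_cons_self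
    obtain ⟨η, hη, h⟩ := ih hl'
    have hrl := N.act_lt hD hl' hr
    set r' := N.act D l r
    refine ⟨(Rel.eta hD i r' : F) * η, ?_, ?_⟩
    · rcases Rel.eta_cases hD i r' with e | e <;> rcases hη with f | f <;> simp [e, f]
    have hinv : ((Rel.eta hD i r' : F) * η)⁻¹ = (Rel.eta hD i r' : F) * η⁻¹ := by
      rcases Rel.eta_cases hD i r' with e | e <;> simp [e]
    have hneg : (Rel.eta hD i (D.neg r') : F) = (Rel.eta hD i r' : F) := by
      unfold Rel.eta; rw [(Rel.refl hD hi).eta_neg r' hrl]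
    rw [nW_cons, mul_inv_rev,
      show S.ni i * S.nW l * S.n r 1 * ((S.nW l)⁻¹ * (S.ni i)⁻¹) =
        S.ni i * (S.nW l * S.n r 1 * (S.nW l)⁻¹) * (S.ni i)⁻¹ by group, h, n]
    calc S.ni i * (S.X r' η * S.X (D.neg r') (-η⁻¹) * S.X r' η) * (S.ni i)⁻¹
        = (S.ni i * S.X r' η * (S.ni i)⁻¹) * (S.ni i * S.X (D.neg r') (-η⁻¹) * (S.ni i)⁻¹) *
            (S.ni i * S.X r' η * (S.ni i)⁻¹) := by group
      _ = _ := by
        rw [S.n_conj hi hrl, S.n_conj hi (Checks.neg_lt hD hrl), Rel.reflect_neg hD hi hrl, hneg, n, hinv, mul_neg,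
          N.act_cons]

theorem nW_mem_Hbar : ∀ (k : ℕ) (l : List ℕ), l.length ≤ k → (∀ i ∈ l, i < D.rank) →
    (∀ r, D.IsPosRoot r → D.IsPosRoot (N.act D l r)) → S.nW l ∈ S.Hbar := by
  have deletion : ∀ (l : List ℕ), (∀ i ∈ l, i < D.rank) → ∀ a < D.rank,
      ¬ D.IsPosRoot (N.act D l (D.simple a)) →
      ∃ l' : List ℕ, (∀ i ∈ l', i < D.rank) ∧ l'.length + 1 = l.length ∧
        ∃ h ∈ S.Hbar, S.nW l * S.ni a = S.nW l' * h := by
    intro l
    induction l with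
    | nil => exact fun _ a ha hneg => absurd (N.simple_pos hD ha) hneg
    | cons i m ih =>
      intro hl a ha hneg
      have hi := hl i List.mem_cons_self
      have hm : ∀ j ∈ m, j < D.rank := fun j hj => hl j (List.mem_cons_of_mem _ hj)
      by_cases hpos : D.IsPosRoot (N.act D m (D.simple a))
      · have heq : N.act D m (D.simple a) = D.simple i := by
          by_contra hne
          exact hneg (Weight.reflect_pos hD hi hpos hne)
        obtain ⟨η, hη, he⟩ := S.conj_n_word hm (Rel.simple_lt hD ha)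
        rw [heq] at he
        have key : S.n (D.simple i) η * S.nW m = S.nW m * S.ni a := by
          rw [← he]; group
        rcases hη with rfl | rfl
        · refine ⟨m, hm, by simp, (S.nW m)⁻¹ * (S.ni i * S.ni i) * S.nW m, S.nW_conj_Hbar hm (S.ni_sq_mem hi), ?_⟩
          rw [nW_cons, mul_assoc (S.ni i), ← key]; group
        · refine ⟨m, hm, by simp, 1, one_mem _, ?_⟩
          rw [nW_cons, mul_assoc (S.ni i), ← key, S.n_neg (Rel.simple_lt hD hi)]; group
      · obtain ⟨l', hl', hlen, h, hh, he⟩ := ih hm a ha hpos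
        refine ⟨i :: l', fun j hj => (List.mem_cons.1 hj).elim (fun e => e ▸ hi) (hl' j), by simp [hlen], h, hh, ?_⟩
        rw [nW_cons, nW_cons, mul_assoc, he, mul_assoc]
  intro k
  induction k using Nat.strong_induction_on with
  | _ k ih =>
    intro l hlen hl hfix
    rcases List.eq_nil_or_concat l with rfl | ⟨m, a, rfl⟩
    · simp [nW]
    rw [List.concat_eq_append] at hlen hl hfix ⊢
    have ha : a < D.rank := hl a (by simp)
    have hm : ∀ j ∈ m, j < D.rank := fun j hj => hl j (List.mem_append_left _ hj)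
    have hp := N.simple_pos hD ha
    have h1 := hfix _ hp
    rw [N.act_append, Weyl.act_singleton, Weyl.reflect_simple, N.act_neg hD hm hp.1] at h1
    obtain ⟨l', hl', hll, h, hh, he⟩ := deletion m hm a ha fun h => N.not_pos_neg hD h h1
    have hW : S.nW (m ++ [a]) = S.nW l' * h := by rw [nW_append, ← he]; simp [nW]
    have hfix' : ∀ r, D.IsPosRoot r → D.IsPosRoot (N.act D l' r) := fun r hr => by
      have e := congrArg S.θ hW
      rw [map_mul, S.θ_nW hl, S.θ_nW hl'] at e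
      rw [← N.act_congr hD hl hl' (S.θ_Hbar hh) e hr.1]
      exact hfix r hr
    simp only [List.length_append, List.length_singleton] at hlen
    rw [hW]
    exact mul_mem (ih (k - 1) (by omega) l' (by omega) hl' hfix') hh

/-- `ŪN̄Ū` -/
def Big (g : G) : Prop := ∃ u ∈ S.Ubar, ∃ l : List ℕ, (∀ i ∈ l, i < D.rank) ∧ ∃ k ∈ S.Hbar, ∃ u' ∈ S.Ubar,
  g = u * S.nW l * k * u'

theorem big_left {g u : G} (hu : u ∈ S.Ubar) (hg : S.Big g) : S.Big (u * g) := by
  obtain ⟨v, hv, l, hl, k, hk, u', hu', rfl⟩ := hg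
  exact ⟨u * v, mul_mem hu hv, l, hl, k, hk, u', hu', by group⟩

theorem big_Hbar {g k₀ : G} (h₀ : k₀ ∈ S.Hbar) (hg : S.Big g) : S.Big (k₀ * g) := by
  obtain ⟨v, hv, l, hl, k, hk, u', hu', rfl⟩ := hg
  exact ⟨k₀ * v * k₀⁻¹, S.Hbar_normalizes h₀ (fun _ h => h.1) hv, l, hl, (S.nW l)⁻¹ * k₀ * S.nW l * k,
    mul_mem (S.nW_conj_Hbar hl h₀) hk, u', hu', by group⟩

theorem offPos_le : ∀ {i : ℕ}, S.gen (Off hD i 1) ≤ S.Ubar := fun {i} =>
  S.gen_mono fun s ⟨hs, k, hk, _, hpos⟩ => RootGen.pos_of_coef_pos hD hk hs (by simpa using hpos)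

theorem big_ni {i : ℕ} (hi : i < D.rank) {g : G} (hg : S.Big g) : S.Big (S.ni i * g) := by
  obtain ⟨v, hv, l, hl, k, hk, u', hu', rfl⟩ := hg
  have hp := Rel.simple_lt hD hi
  set p := D.simple i with hpdef
  obtain ⟨w, hw, t, rfl⟩ : ∃ w ∈ S.gen (Off hD i 1), ∃ t, v = w * S.X p t := by
    let K : Subgroup G := Subgroup.closure {g | ∃ t : F, g = S.X p t}
    have hK : K ≤ Subgroup.normalizer (S.gen (Off hD i 1) : Set G) := (Subgroup.closure_le _).2 (by
      rintro g ⟨t, rfl⟩; exact S.mem_normalizer hp (off_stable hD hi (Or.inl rfl)) t)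
    have hle : S.Ubar ≤ S.gen (Off hD i 1) ⊔ K := S.gen_le fun s hs t => by
      by_cases h : s = p
      · subst h; exact Subgroup.mem_sup_right (Subgroup.subset_closure ⟨t, rfl⟩)
      · obtain ⟨j, hj, hji, hpos⟩ := RootGen.exists_other_coef hD hs h
        exact Subgroup.mem_sup_left (S.mem_gen (show Off hD i 1 s from ⟨hs.1, j, hj, hji, by simpa using hpos⟩) t)
    have h := hle hv
    rw [← SetLike.mem_coe, Subgroup.coe_mul_of_right_le_normalizer_left _ _ hK] at h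
    obtain ⟨w, hw, x, hx, he⟩ := Set.mem_mul.1 h
    have : ∃ t, x = S.X p t := by
      clear he h
      induction hx using Subgroup.closure_induction with
      | mem y hy => exact hy
      | one => exact ⟨0, (S.X_zero hp).symm⟩
      | mul a b _ _ ha hb => obtain ⟨t, rfl⟩ := ha; obtain ⟨u, rfl⟩ := hb; exact ⟨t + u, S.add p hp t u⟩
      | inv a _ ha => obtain ⟨t, rfl⟩ := ha; exact ⟨-t, S.X_inv hp t⟩
    obtain ⟨t, rfl⟩ := this
    exact ⟨w, hw, t, he.symm⟩
  have hw' : S.ni i * w * (S.ni i)⁻¹ ∈ S.Ubar :=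
    S.offPos_le ((Subgroup.mem_normalizer_iff.1 (S.n_mem_normalizer hi 1 1) w).1 hw)
  rw [show S.ni i * (w * S.X p t * S.nW l * k * u') =
    (S.ni i * w * (S.ni i)⁻¹) * (S.ni i * S.X p t * S.nW l * k * u') by group]
  refine S.big_left hw' ?_
  have move : ∀ {m : List ℕ}, (∀ j ∈ m, j < D.rank) → D.IsPosRoot (N.act D m.reverse p) → ∀ a : F,
      ∃ x ∈ S.Ubar, S.X p a * S.nW m = S.nW m * x := by
    intro m hm hpos a
    obtain ⟨η, hη, h⟩ := S.nW_conj hm hpos.1
    refine ⟨S.X (N.act D m.reverse p) (η * a), S.mem_gen hpos _, ?_⟩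
    have h' := h (η * a)
    rw [Weyl.act_act_reverse hD hm hp, ← mul_assoc, show η * η = 1 by rcases hη with rfl | rfl <;> simp,
      one_mul] at h'
    rw [← h']; group
  have hl' : ∀ j ∈ l.reverse, j < D.rank := fun j hj => hl j (List.mem_reverse.1 hj)
  have hrl : N.act D l.reverse p < D.nroots := N.act_lt hD hl' hp
  have hcons : ∀ j ∈ i :: l, j < D.rank := List.forall_mem_cons.2 ⟨hi, hl⟩
  rcases Checks.pos_or_neg hD hrl with hpos | hneg
  · obtain ⟨x, hx, he⟩ := move hl hpos t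
    refine ⟨1, one_mem _, i :: l, hcons, k, hk, (k⁻¹ * x * k) * u', mul_mem ?_ hu', ?_⟩
    · simpa using S.Hbar_normalizes (inv_mem hk) (fun _ h => h.1) hx
    · rw [nW_cons, mul_assoc (S.ni i) (S.X p t), he]; group
  · by_cases ht : t = 0
    · exact ⟨1, one_mem _, i :: l, hcons, k, hk, u', hu', by rw [ht, S.X_zero hp, nW_cons]; group⟩
    have hconj := S.n_conj hi hp t
    rw [Weyl.reflect_simple] at hconj
    set τ := (Rel.eta hD i p : F) * t
    have hτ : τ ≠ 0 := by rcases Rel.eta_cases hD i p with e | e <;> simp [τ, e, ht]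
    have hcell : S.X (D.neg p) τ = S.X p τ⁻¹ * S.h p (-τ⁻¹) * S.ni i * S.X p τ⁻¹ := by
      have hn := S.n_eq_h hp (-τ⁻¹)
      calc S.X (D.neg p) τ = S.X p τ⁻¹ * S.n p (-τ⁻¹) * S.X p τ⁻¹ := by
            rw [n, ← mul_assoc, ← mul_assoc, S.add p hp, add_neg_cancel, S.X_zero hp, one_mul, mul_assoc,
              S.add p hp, neg_add_cancel, S.X_zero hp, mul_one, inv_neg, neg_neg, inv_inv]
        _ = _ := by rw [hn, ← mul_assoc]
    have hpos' : D.IsPosRoot (N.act D (i :: l).reverse p) := by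
      rw [List.reverse_cons, N.act_append, Weyl.act_singleton, Weyl.reflect_simple, N.act_neg hD hl' hp]
      exact Checks.neg_pos_of_neg hD hrl hneg
    obtain ⟨x, hx, he⟩ := move hcons hpos' τ⁻¹
    rw [nW_cons] at he
    have hk₂ : (S.nW l)⁻¹ * (S.h p (-τ⁻¹) * (S.ni i * S.ni i)) * S.nW l ∈ S.Hbar :=
      S.nW_conj_Hbar hl (mul_mem (S.h_mem hi (neg_ne_zero.2 (inv_ne_zero hτ))) (S.ni_sq_mem hi))
    refine ⟨S.X p τ⁻¹, S.mem_gen (N.simple_pos hD hi) _, l, hl,
      ((S.nW l)⁻¹ * (S.h p (-τ⁻¹) * (S.ni i * S.ni i)) * S.nW l) * k, mul_mem hk₂ hk,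
      (k⁻¹ * x * k) * u', mul_mem (by simpa using S.Hbar_normalizes (inv_mem hk) (fun _ h => h.1) hx) hu', ?_⟩
    calc S.ni i * S.X p t * S.nW l * k * u'
        = (S.ni i * S.X p t * (S.ni i)⁻¹) * (S.ni i * S.nW l) * k * u' := by group
      _ = S.X p τ⁻¹ * S.h p (-τ⁻¹) * S.ni i * (S.X p τ⁻¹ * (S.ni i * S.nW l)) * k * u' := by
          rw [hconj, hcell]; group
      _ = _ := by rw [he]; group

/-- the root elements generate -/
def Gen : Prop := Subgroup.closure {g : G | ∃ r t, r < D.nroots ∧ g = S.X r t} = ⊤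

theorem exists_big (hgen : S.Gen) (g : G) : S.Big g := by
  let T : Set G := {g | ∃ (i : ℕ) (t : F), i < D.rank ∧ (g = S.X (D.simple i) t ∨ g = S.X (D.neg (D.simple i)) t)}
  have hT : Subgroup.closure T = ⊤ := by
    rw [eq_top_iff, ← hgen]
    refine (Subgroup.closure_le _).2 ?_
    rintro x ⟨r, t, hr, rfl⟩
    revert t
    refine Rel.root_induction hD (P := fun r => ∀ t, S.X r t ∈ Subgroup.closure T)
      (fun a ha t => Subgroup.subset_closure ⟨a, t, ha, Or.inl rfl⟩) (fun i r hi hr ih t => ?_) hr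
    have hn : S.ni i ∈ Subgroup.closure T :=
      mul_mem (mul_mem (Subgroup.subset_closure ⟨i, 1, hi, Or.inl rfl⟩)
        (Subgroup.subset_closure ⟨i, _, hi, Or.inr rfl⟩)) (Subgroup.subset_closure ⟨i, 1, hi, Or.inl rfl⟩)
    rw [show S.X r t = (S.ni i)⁻¹ * (S.ni i * S.X r t * (S.ni i)⁻¹) * S.ni i by group, S.n_conj hi hr]
    exact mul_mem (mul_mem (inv_mem hn) (ih _)) hn
  have hinv : ∀ {i : ℕ}, i < D.rank → ∀ {m : G}, S.Big m → S.Big ((S.ni i)⁻¹ * m) := fun {i} hi {m} hm => by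
    rw [show (S.ni i)⁻¹ * m = S.ni i * ((S.ni i * S.ni i)⁻¹ * m) by group]
    exact S.big_ni hi (S.big_Hbar (inv_mem (S.ni_sq_mem hi)) hm)
  have hX : ∀ {i : ℕ}, i < D.rank → ∀ (t : F) {m : G}, S.Big m →
      S.Big (S.X (D.simple i) t * m) ∧ S.Big (S.X (D.neg (D.simple i)) t * m) := fun {i} hi t {m} hm => by
    have hp := Rel.simple_lt hD hi
    refine ⟨S.big_left (S.mem_gen (N.simple_pos hD hi) t) hm, ?_⟩
    have e := S.n_conj hi hp ((Rel.eta hD i (D.simple i) : F) * t)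
    rw [← mul_assoc, Rel.etaF_sq, one_mul, Weyl.reflect_simple] at e
    rw [← e, mul_assoc, mul_assoc]
    exact S.big_ni hi (S.big_left (S.mem_gen (N.simple_pos hD hi) _) (hinv hi hm))
  have key : ∀ x, ∀ m, S.Big m → S.Big (x * m) ∧ S.Big (x⁻¹ * m) := fun x => by
    have hx : x ∈ Subgroup.closure T := hT ▸ Subgroup.mem_top x
    induction hx using Subgroup.closure_induction with
    | mem y hy =>
      intro m hm
      obtain ⟨i, t, hi, rfl | rfl⟩ := hy
      · rw [S.X_inv (Rel.simple_lt hD hi)]; exact ⟨(hX hi t hm).1, (hX hi (-t) hm).1⟩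
      · rw [S.X_inv (Checks.neg_lt hD (Rel.simple_lt hD hi))]; exact ⟨(hX hi t hm).2, (hX hi (-t) hm).2⟩
    | one => intro m hm; simpa using hm
    | mul a b _ _ ha hb =>
      intro m hm
      refine ⟨by rw [mul_assoc]; exact (ha _ (hb m hm).1).1, ?_⟩
      rw [mul_inv_rev, mul_assoc]; exact (hb _ (ha m hm).2).2
    | inv a _ ha => intro m hm; rw [inv_inv]; exact ⟨(ha m hm).2, (ha m hm).1⟩
  have h1 : S.Big 1 := ⟨1, one_mem _, [], by simp, 1, one_mem _, 1, one_mem _, by simp [nW]⟩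
  simpa using (key g 1 h1).1

theorem ker_le_Hbar (hgen : S.Gen) : S.θ.ker ≤ S.Hbar := by
  intro g hg
  rw [MonoidHom.mem_ker] at hg
  obtain ⟨u, hu, l, hl, k, hk, u', hu', rfl⟩ := S.exists_big hgen g
  rw [map_mul, map_mul, map_mul, S.θ_nW hl] at hg
  have hB : N.nW hD F l ∈ D.borelSubgroup F := by
    have e : N.nW hD F l = (S.θ u)⁻¹ * (S.θ u')⁻¹ * (S.θ k)⁻¹ :=
      calc N.nW hD F l = (S.θ u)⁻¹ * (S.θ u * N.nW hD F l * S.θ k * S.θ u') * (S.θ u')⁻¹ * (S.θ k)⁻¹ := by group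
        _ = _ := by rw [hg]; group
    rw [e]
    exact mul_mem (mul_mem (inv_mem (Subgroup.mem_sup_left (S.θ_Ubar hu)))
      (inv_mem (Subgroup.mem_sup_left (S.θ_Ubar hu')))) (inv_mem (Subgroup.mem_sup_right (S.θ_Hbar hk)))
  have hH := (BN.inf_monomial hD).le (Subgroup.mem_inf.2 ⟨hB, N.nW_mem hD hl⟩)
  have hfix : ∀ r, D.IsPosRoot r → D.IsPosRoot (N.act D l r) := fun r hr => by
    have e := N.act_congr (l := l) (m := []) hD hl (by simp) hH (by simp [N.nW]) hr.1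
    rw [e]; exact hr
  have hn := S.nW_mem_Hbar l.length l le_rfl hl hfix
  set k' := S.nW l * k with hk'
  have hk'H : k' ∈ S.Hbar := mul_mem hn hk
  have hu'' : u * (k' * u' * k'⁻¹) ∈ S.Ubar := mul_mem hu (S.Hbar_normalizes hk'H (fun _ h => h.1) hu')
  have e : u * S.nW l * k * u' = (u * (k' * u' * k'⁻¹)) * k' := by rw [hk']; group
  have h1 : S.θ (u * (k' * u' * k'⁻¹)) * S.θ k' = 1 := by
    rw [← map_mul, ← e, map_mul, map_mul, map_mul, S.θ_nW hl]; exact hg
  have h2 : S.θ (u * (k' * u' * k'⁻¹)) ∈ D.posUnipotent F ⊓ D.diagonalSubgroup F :=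
    Subgroup.mem_inf.2 ⟨S.θ_Ubar hu'', by rw [eq_inv_of_mul_eq_one_left h1]; exact inv_mem (S.θ_Hbar hk'H)⟩
  rw [BH.pos_inf_diagonal hD, Subgroup.mem_bot] at h2
  have h3 : u * (k' * u' * k'⁻¹) = 1 := by
    refine S.inj_gen (l := []) (by simp) (P := fun s => D.IsPosRoot s) ⟨fun r h => h.1, fun r h => h,
      fun r s hr hs c hc => (Weight.commTerms_pos hD hr hs hc).1⟩ hu'' h2
  rw [e, h3, one_mul]
  exact hk'H

theorem ker_le_center (hgen : S.Gen) : S.θ.ker ≤ Subgroup.center G := by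
  intro k hk
  rw [Subgroup.mem_center_iff]
  intro g
  have hg : g ∈ Subgroup.centralizer ({k} : Set G) := by
    have hle : Subgroup.closure {g : G | ∃ r t, r < D.nroots ∧ g = S.X r t} ≤ Subgroup.centralizer ({k} : Set G) := by
      refine (Subgroup.closure_le _).2 ?_
      rintro x ⟨r, t, hr, rfl⟩
      obtain ⟨a, -, ha⟩ := S.Hbar_conj (S.ker_le_Hbar hgen hk) r hr
      have e := congrArg S.θ (ha 1)
      rw [map_mul, map_mul, map_inv, MonoidHom.mem_ker.1 hk, S.θX r hr, S.θX r hr, one_mul, inv_one, mul_one] at e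
      have e2 : xGL hD F r (1 + -(a * 1)) = 1 := by rw [← Rel.xGL_add hD hr, ← Rel.xGL_inv hD hr, ← e, mul_inv_cancel]
      have e3 := (XOne.x_eq_one_iff hD hr _).1 (congrArg Units.val e2)
      have ha1 : a = 1 := by linear_combination -e3
      rw [SetLike.mem_coe, Subgroup.mem_centralizer_singleton_iff]
      have e4 := ha t
      rw [ha1, one_mul, mul_inv_eq_iff_eq_mul] at e4
      exact e4.symm
    exact hle (hgen ▸ Subgroup.mem_top g)
  exact Subgroup.mem_centralizer_singleton_iff.1 hg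

end Sys

end CfsgLib.Chev.Abstract
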