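import Cfsg.Agent.Lib.Chev.Abstract.Kernel
import Cfsg.Agent.Lib.Chev.Group.Simple
import Cfsg.Agent.Lib.Chev.Group.Torus
import Cfsg.Prelude.Def_SteinbergCover

/-! The presented Steinberg groups. -/
set_option autoImplicit false
set_option maxRecDepth 100000
open Cfsg.Lie
open scoped Matrix MatrixGroups commutatorElement

namespace CfsgLib.Chev.Abstract

open CfsgLib.Chev CfsgLib.Chev.Checks CfsgLib.Chev.Basic

section presented

variable {D : ChevalleyDatum} {F : Type*} [Field F]

theorem mk_word {R : Set (FreeGroup (Fin D.nroots × F))} (w : List (ℕ × F)) :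
    PresentedGroup.mk R (D.stWord w) = (w.map fun p => PresentedGroup.mk R (D.stX p.1 p.2)).prod := by
  simp [ChevalleyDatum.stWord, map_list_prod, List.map_map, Function.comp_def]

theorem mk_eq_one {R : Set (FreeGroup (Fin D.nroots × F))} {g : FreeGroup (Fin D.nroots × F)} (hg : g ∈ R) :
    PresentedGroup.mk R g = 1 :=
  (QuotientGroup.eq_one_iff g).2 (Subgroup.subset_normalClosure hg)

theorem closure_gen (R : Set (FreeGroup (Fin D.nroots × F))) :
    Subgroup.closure {g : PresentedGroup R | ∃ r t, r < D.nroots ∧ g = PresentedGroup.mk R (D.stX r t)} = ⊤ := by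
  rw [eq_top_iff, ← PresentedGroup.closure_range_of R]
  refine Subgroup.closure_mono ?_
  rintro _ ⟨⟨⟨r, hr⟩, t⟩, rfl⟩
  exact ⟨r, t, hr, by simp [ChevalleyDatum.stX, hr]; rfl⟩

/-- a system from a presentation containing (R1), (R2) -/
def sys (hD : D ∈ dataList) {R : Set (FreeGroup (Fin D.nroots × F))} (hR : D.steinbergRelsAB F ⊆ R)
    (θ : PresentedGroup R →* GL D.Idx F)
    (hθ : ∀ r, r < D.nroots → ∀ t : F, θ (PresentedGroup.mk R (D.stX r t)) = xGL hD F r t) :
    Sys hD F (PresentedGroup R) where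
  X r t := PresentedGroup.mk R (D.stX r t)
  θ := θ
  θX := hθ
  add r hr t u := by
    have h := mk_eq_one (hR (Or.inl ⟨r, t, u, hr, rfl⟩))
    rw [map_mul, map_mul, map_inv, mul_inv_eq_one] at h
    exact h
  comm r s hr hs h1 h2 t u := by
    have h := mk_eq_one (hR (Or.inr ⟨r, s, t, u, hr, hs, h1, h2, rfl⟩))
    simp only [map_mul, map_inv, mul_inv_eq_one, mk_word] at h
    calc PresentedGroup.mk R (D.stX s u) * PresentedGroup.mk R (D.stX r t)
        = PresentedGroup.mk R (D.stX r t) * PresentedGroup.mk R (D.stX s u) *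
          ((PresentedGroup.mk R (D.stX s u))⁻¹ * (PresentedGroup.mk R (D.stX r t))⁻¹ * PresentedGroup.mk R (D.stX s u) *
            PresentedGroup.mk R (D.stX r t)) := by group
      _ = _ := by rw [h]

theorem sys_gen (hD : D ∈ dataList) {R : Set (FreeGroup (Fin D.nroots × F))} (hR : D.steinbergRelsAB F ⊆ R)
    (θ : PresentedGroup R →* GL D.Idx F)
    (hθ : ∀ r, r < D.nroots → ∀ t : F, θ (PresentedGroup.mk R (D.stX r t)) = xGL hD F r t) :
    (sys hD hR θ hθ).Gen := closure_gen R

theorem sys_h (hD : D ∈ dataList) {R : Set (FreeGroup (Fin D.nroots × F))} (hR : D.steinbergRelsAB F ⊆ R)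
    (θ : PresentedGroup R →* GL D.Idx F)
    (hθ : ∀ r, r < D.nroots → ∀ t : F, θ (PresentedGroup.mk R (D.stX r t)) = xGL hD F r t) (r : ℕ) (t : F) :
    (sys hD hR θ hθ).h r t = PresentedGroup.mk R (D.stH r t) := by
  simp only [ChevalleyDatum.stH, mk_word, ChevalleyDatum.hWord, ChevalleyDatum.nWord, List.map_append, List.map_cons,
    List.map_nil, List.prod_append, List.prod_cons, List.prod_nil, mul_one, Sys.h, Sys.n, sys]
  group

theorem relsAB_subset : D.steinbergRelsAB F ⊆ D.steinbergRels F := fun _ h => Or.inl h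

/-- the generator map -/
noncomputable def genMap (hD : D ∈ dataList) : Fin D.nroots × F → GL D.Idx F := fun p => xGL hD F p.1 p.2

theorem lift_stX (hD : D ∈ dataList) {r : ℕ} (hr : r < D.nroots) (t : F) :
    FreeGroup.lift (genMap hD) (D.stX r t) = xGL hD F r t := by
  simp [ChevalleyDatum.stX, hr, genMap]

theorem lift_word (hD : D ∈ dataList) {w : List (ℕ × F)} (hw : ∀ p ∈ w, p.1 < D.nroots) :
    FreeGroup.lift (genMap hD) (D.stWord w) = Rel.wordGL hD w := by
  rw [ChevalleyDatum.stWord, map_list_prod, List.map_map]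
  unfold Rel.wordGL
  congr 1
  exact List.map_congr_left fun p hp => lift_stX hD (hw p hp) p.2

theorem lift_stH (hD : D ∈ dataList) {r : ℕ} (hr : r < D.nroots) (t : F) :
    FreeGroup.lift (genMap hD) (D.stH r t) = hGL hD F r t := by
  rw [ChevalleyDatum.stH, lift_word hD (by
    simp [ChevalleyDatum.hWord, ChevalleyDatum.nWord, hr, Checks.neg_lt hD hr])]
  refine Units.ext ?_
  simp only [Rel.wordGL, ChevalleyDatum.hWord, ChevalleyDatum.nWord]
  rw [hGL_val]
  simp [ChevalleyDatum.hMat, ChevalleyDatum.hWord, ChevalleyDatum.nWord, ChevalleyDatum.wordMat, xGL_val, mul_assoc]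

theorem lift_rels (hD : D ∈ dataList) : ∀ g ∈ D.steinbergRels F, FreeGroup.lift (genMap hD) g = 1 := by
  rintro g ((⟨r, t, u, hr, rfl⟩ | ⟨r, s, t, u, hr, hs, h1, h2, rfl⟩) | ⟨r, t, u, hr, ht, hu, rfl⟩)
  · rw [map_mul, map_mul, map_inv, lift_stX hD hr, lift_stX hD hr, lift_stX hD hr, Rel.xGL_add hD hr, mul_inv_cancel]
  · have hw : ∀ p ∈ D.commWord F r s t u, p.1 < D.nroots := fun p hp => by
      obtain ⟨c, hc, rfl⟩ := List.mem_map.1 hp
      exact Orbit.commTerms_lt (Rel.tab_valid hD) hr hs hc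
    simp only [map_mul, map_inv, lift_stX hD hr, lift_stX hD hs, lift_word hD hw, mul_inv_eq_one]
    rw [mul_assoc _ (xGL hD F s u), Rel.comm_GL hD hr hs h1 h2]
    group
  · rw [map_mul, map_mul, map_inv, lift_stH hD hr, lift_stH hD hr, lift_stH hD hr, mul_inv_eq_one]
    have key : ∀ a b : Fˣ, hGL hD F r (a : F) * hGL hD F r (b : F) = hGL hD F r ((a * b : Fˣ) : F) := fun a b => by
      rw [← Torus.torus_root hD hr a, ← Torus.torus_root hD hr b, ← Torus.torus_root hD hr (a * b), ← map_mul]
      congr 1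
      funext k
      rw [Pi.mul_apply, ← mul_zpow]
    exact key (Units.mk0 t ht) (Units.mk0 u hu)

/-- the canonical map of a presentation to the linear group -/
noncomputable def canon (hD : D ∈ dataList) {R : Set (FreeGroup (Fin D.nroots × F))} (hR : R ⊆ D.steinbergRels F) :
    PresentedGroup R →* GL D.Idx F :=
  PresentedGroup.toGroup (f := genMap hD) fun g hg => lift_rels hD g (hR hg)

theorem canon_X (hD : D ∈ dataList) {R : Set (FreeGroup (Fin D.nroots × F))} (hR : R ⊆ D.steinbergRels F) {r : ℕ}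
    (hr : r < D.nroots) (t : F) : canon hD hR (PresentedGroup.mk R (D.stX r t)) = xGL hD F r t := by
  simp only [ChevalleyDatum.stX, hr, dite_true]
  exact PresentedGroup.toGroup.of _

theorem canon_range (hD : D ∈ dataList) {R : Set (FreeGroup (Fin D.nroots × F))} (hR : R ⊆ D.steinbergRels F) :
    (canon hD hR).range = D.group F := by
  rw [MonoidHom.range_eq_map, ← closure_gen R, MonoidHom.map_closure]
  show _ = Subgroup.closure _
  congr 1
  ext g
  simp only [Set.mem_image, Set.mem_ofPred_eq]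
  constructor
  · rintro ⟨_, ⟨r, t, hr, rfl⟩, rfl⟩
    exact ⟨⟨r, hr⟩, t, by rw [canon_X hD hR hr, xGL_val, Checks.x_of_lt hr]⟩
  · rintro ⟨r, t, hg⟩
    refine ⟨_, ⟨r, t, r.2, rfl⟩, ?_⟩
    rw [canon_X hD hR r.2]
    exact Units.ext ((xGL_val hD _ _).trans ((Checks.x_of_lt r.2 t).trans hg.symm))

/-- the canonical map onto the Chevalley group -/
noncomputable def onto (hD : D ∈ dataList) {R : Set (FreeGroup (Fin D.nroots × F))} (hR : R ⊆ D.steinbergRels F) :
    PresentedGroup R →* ↥(D.group F) :=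
  (canon hD hR).codRestrict (D.group F) fun x => (canon_range hD hR).le ⟨x, rfl⟩

theorem onto_surjective (hD : D ∈ dataList) {R : Set (FreeGroup (Fin D.nroots × F))} (hR : R ⊆ D.steinbergRels F) :
    Function.Surjective (onto (F := F) hD hR) := by
  rintro ⟨g, hg⟩
  obtain ⟨x, hx⟩ := (canon_range hD hR).ge hg
  exact ⟨x, Subtype.ext hx⟩

theorem onto_ker (hD : D ∈ dataList) {R : Set (FreeGroup (Fin D.nroots × F))} (hR : R ⊆ D.steinbergRels F) :
    (onto (F := F) hD hR).ker = (canon hD hR).ker := MonoidHom.ker_codRestrict _ _ _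

theorem ker_le_center' (hD : D ∈ dataList) {R : Set (FreeGroup (Fin D.nroots × F))}
    (hAB : D.steinbergRelsAB F ⊆ R) (hR : R ⊆ D.steinbergRels F) :
    (canon hD hR).ker ≤ Subgroup.center (PresentedGroup R) :=
  (sys hD hAB (canon hD hR) fun _ hr t => canon_X hD hR hr t).ker_le_center (sys_gen _ _ _ _)

theorem center_group_trivial (hD : D ∈ dataList) : Subgroup.center ↥(D.group F) = ⊥ := by
  set P := BN.bnPair (F := F) hD
  have hB : P.parabolic ∅ = P.B := by simp [Cfsg.BNPair.parabolic]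
  have hn := CfsgLib.BNPair.Parabolic.normalizer_parabolic (P := P) (J := ∅) (Set.empty_subset _)
  rw [hB] at hn
  have hle : Subgroup.center ↥(D.group F) ≤ P.B := fun z hz => by
    rw [← hn, Subgroup.mem_normalizer_iff]
    intro b
    have : z * b * z⁻¹ = b := by rw [← Subgroup.mem_center_iff.1 hz b]; group
    rw [this]
  have := Opposite.borel_core (F := F) hD
  exact le_bot_iff.1 (this ▸ Subgroup.normal_le_normalCore.2 hle)

theorem ker_eq_center (hD : D ∈ dataList) {R : Set (FreeGroup (Fin D.nroots × F))}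
    (hAB : D.steinbergRelsAB F ⊆ R) (hR : R ⊆ D.steinbergRels F) :
    (onto (F := F) hD hR).ker = Subgroup.center (PresentedGroup R) := by
  refine le_antisymm (onto_ker hD hR ▸ ker_le_center' hD hAB hR) fun z hz => ?_
  rw [MonoidHom.mem_ker, ← Subgroup.mem_bot, ← center_group_trivial hD, Subgroup.mem_center_iff]
  intro g
  obtain ⟨x, rfl⟩ := onto_surjective hD hR g
  rw [← map_mul, Subgroup.mem_center_iff.1 hz x, map_mul]

end presented

end CfsgLib.Chev.Abstract
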